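import Cfsg.Agent.Lib.PrimeGraphBC.OrthTwo
import Cfsg.Agent.Lib.POmegaCard
import Cfsg.Agent.Lib.PSpGraph.Basic

/-! The prime graphs of `B_n(q)` and `C_n(q)`, `q` odd. -/

set_option autoImplicit false
set_option linter.unusedSectionVars false
set_option maxHeartbeats 1000000
set_option synthInstance.maxHeartbeats 200000

namespace CfsgLib.PrimeGraphBC

open Matrix Polynomial CfsgLib.StdQuadForms CfsgLib.SemisimplePrimeClasses

variable {F : Type*} [Field F] [Fintype F] {n : ℕ}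

theorem T_one_four (hodd : Odd (Fintype.card F)) : T (Fintype.card F) 4 1 := by
  refine ⟨one_pos, ?_⟩
  rw [pow_one]
  obtain ⟨t, ht⟩ := hodd
  omega

theorem T_pos {q N a : ℕ} (hq : 2 ≤ q) (h : T q N a) : 0 < N := by
  refine Nat.pos_of_ne_zero fun h0 => ?_
  obtain ⟨ha, h⟩ := h
  have := Nat.pow_le_pow_left hq a
  have := Nat.one_lt_pow ha.ne' (show 1 < q by omega)
  rcases h with h | h <;> rw [h0, zero_dvd_iff] at h <;> omega

/-- The odd-dimensional group with an element of prescribed order in the isometry group. -/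
def OMem (F : Type*) [Field F] (n N : ℕ) : Prop :=
  ∃ g : Cfsg.isometryGroup F ⇑(Qo (F := F) n), orderOf g = N

/-- The symplectic group has an element of prescribed order. -/
def SMem (F : Type*) [Field F] (n N : ℕ) : Prop :=
  ∃ g : Matrix.symplecticGroup (Fin n) F, orderOf g = N

section exist

variable (h2 : (2 : F) ≠ 0) (p : ℕ) [Fact p.Prime] [CharP F p]

include p

include h2 in
theorem orth_block {N a c : ℕ} {M : ℕ} (hn : a + c = n) (hT : T (Fintype.card F) N a) (hM : OMem F c M) :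
    OMem F n (Nat.lcm N M) := by
  obtain ⟨Q, hQ, g, hg⟩ := exists_block h2 p hT
  obtain ⟨h, hh⟩ := hM
  obtain ⟨x, hx⟩ := exists_embed h2 hn hQ g h
  exact ⟨x, by rw [hx, hg, hh]⟩

include h2 in
theorem orth_one {N a : ℕ} (ha : a ≤ n) (hT : T (Fintype.card F) N a) : OMem F n N := by
  have := orth_block (n := n) (c := n - a) h2 p (by omega) hT ⟨1, orderOf_one⟩
  rwa [Nat.lcm_one_right] at this

include h2 in
theorem orth_pair {N M a b : ℕ} (hab : a + b ≤ n) (hN : T (Fintype.card F) N a) (hM : T (Fintype.card F) M b)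
    (hco : Nat.Coprime N M) : OMem F n (N * M) := by
  have := orth_block (n := n) (c := n - a) h2 p (by omega) hN (orth_one h2 p (by omega) hM)
  rwa [hco.lcm_eq_mul] at this

theorem symp_torus {N a : ℕ} (hT : T (Fintype.card F) N a) : SMem F a N :=
  CfsgLib.PSpGraph.exists_torus_order p hT.1 (T_pos Fintype.one_lt_card hT) hT.2

theorem symp_one {N a : ℕ} (ha : a ≤ n) (hT : T (Fintype.card F) N a) : SMem F n N := by
  obtain ⟨x, hx⟩ := symp_torus p hT
  obtain ⟨g, hg⟩ := CfsgLib.PSpGraph.exists_pair (n := n) (b := 0) (c := n - a) (by omega)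
    (Nat.coprime_one_right N) x hx (1 : Matrix.symplecticGroup (Fin 0) F) orderOf_one
  exact ⟨g, by rw [hg, mul_one]⟩

theorem symp_pair {N M a b : ℕ} (hab : a + b ≤ n) (hN : T (Fintype.card F) N a) (hM : T (Fintype.card F) M b)
    (hco : Nat.Coprime N M) : SMem F n (N * M) := by
  obtain ⟨x, hx⟩ := symp_torus p hN
  obtain ⟨y, hy⟩ := symp_torus p hM
  exact CfsgLib.PSpGraph.exists_pair (n := n) (c := n - a - b) (by omega) hco x hx y hy

theorem symp_char {N a : ℕ} (ha : a < n) (hT : T (Fintype.card F) N a) (hco : Nat.Coprime N p) :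
    SMem F n (N * p) := by
  obtain ⟨x, hx⟩ := symp_torus p hT
  obtain ⟨y, hy⟩ := CfsgLib.PSpGraph.exists_order_char (F := F) (n := n - a) p (by omega)
  exact CfsgLib.PSpGraph.exists_pair (n := n) (c := 0) (by omega) hco x hx y hy

include h2 in
theorem orth_char (hodd : Odd (Fintype.card F)) {N a : ℕ} (ha : a < n) (hT : T (Fintype.card F) N a)
    (hco : Nat.Coprime N p) : OMem F n (N * p) := by
  have := orth_block (n := n) (c := n - a) h2 p (by omega) hT (exists_orth_char hodd p (by omega))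
  rwa [hco.lcm_eq_mul] at this

end exist

theorem omega_center_bot (h2 : (2 : F) ≠ 0) (hn : 2 ≤ n) :
    Subgroup.center (Cfsg.Omega F ⇑(Qo (F := F) n)) = ⊥ := by
  classical
  rw [Subgroup.eq_bot_iff_forall]
  intro z hz
  rcases CfsgLib.POmegaCard.center_cases (Qo (F := F) n) (by simp; omega) (Qo_nondeg h2 n) z hz with h | h
  · exact Subtype.ext (Subtype.ext (Units.ext h))
  · exfalso
    have hdet : Cfsg.Omega F ⇑(Qo (F := F) n) ≤
        (Matrix.GeneralLinearGroup.det.comp (Cfsg.isometryGroup F ⇑(Qo (F := F) n)).subtype).ker :=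
      Abelianization.commutator_subset_ker _
    have h1 := congrArg Units.val (MonoidHom.mem_ker.1 (hdet z.2))
    rw [MonoidHom.comp_apply, Matrix.GeneralLinearGroup.val_det_apply, Subgroup.coe_subtype, h, Matrix.det_neg,
      Matrix.det_one, mul_one, Units.val_one, Odd.neg_one_pow ⟨n, by simp; ring⟩] at h1
    exact h2 (by linear_combination -h1)

theorem range_POmega_iff (h2 : (2 : F) ≠ 0) (hn : 2 ≤ n) (N : ℕ) :
    N ∈ Set.range (orderOf : Cfsg.POmega F (Cfsg.quadFormOdd n F) → ℕ) ↔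
      ∃ w : Cfsg.isometryGroup F ⇑(Qo (F := F) n), w ∈ Cfsg.Omega F ⇑(Qo (F := F) n) ∧ orderOf w = N := by
  rw [show Cfsg.quadFormOdd n F = ⇑(Qo (F := F) n) from funext fun v => (Qo_apply n v).symm]
  have hinj : Function.Injective (QuotientGroup.mk' (Subgroup.center (Cfsg.Omega F ⇑(Qo (F := F) n)))) := by
    rw [← MonoidHom.ker_eq_bot_iff, QuotientGroup.ker_mk', omega_center_bot h2 hn]
  constructor
  · rintro ⟨g, rfl⟩
    obtain ⟨z, rfl⟩ := QuotientGroup.mk'_surjective (Subgroup.center (Cfsg.Omega F ⇑(Qo (F := F) n))) g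
    exact ⟨z.1, z.2, by rw [orderOf_injective _ hinj, Subgroup.orderOf_coe]⟩
  · rintro ⟨w, hw, rfl⟩
    exact ⟨QuotientGroup.mk' _ ⟨w, hw⟩, by rw [orderOf_injective _ hinj, Subgroup.orderOf_mk]⟩

theorem sq_mem_omega (h2 : (2 : F) ≠ 0) (hn : 1 ≤ n) (g : Cfsg.isometryGroup F ⇑(Qo (F := F) n)) :
    g ^ 2 ∈ Cfsg.Omega F ⇑(Qo (F := F) n) := by
  classical
  rw [CfsgLib.OmegaMem.omega_iff _ h2 (by simp; omega) (Qo_nondeg h2 n), map_pow, map_pow]
  exact Prod.ext (Int.units_sq _) (Int.units_sq _)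

theorem orth_range_odd (h2 : (2 : F) ≠ 0) (hn : 2 ≤ n) {N : ℕ} (hN : Odd N) (h : OMem F n N) :
    N ∈ Set.range (orderOf : Cfsg.POmega F (Cfsg.quadFormOdd n F) → ℕ) := by
  obtain ⟨g, rfl⟩ := h
  refine (range_POmega_iff h2 hn _).2 ⟨g, ?_, rfl⟩
  obtain ⟨k, hk⟩ := hN
  rw [show g = (g ^ (k + 1)) ^ 2 by
    rw [← pow_mul, show (k + 1) * 2 = orderOf g + 1 by omega, pow_succ, pow_orderOf_eq_one, one_mul]]
  exact sq_mem_omega h2 (by omega) _

theorem orth_range_double (h2 : (2 : F) ≠ 0) (hn : 2 ≤ n) {N : ℕ} (h : OMem F n (4 * N)) :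
    2 * N ∈ Set.range (orderOf : Cfsg.POmega F (Cfsg.quadFormOdd n F) → ℕ) := by
  obtain ⟨g, hg⟩ := h
  refine (range_POmega_iff h2 hn _).2 ⟨g ^ 2, sq_mem_omega h2 (by omega) _, ?_⟩
  rw [orderOf_pow_of_dvd two_ne_zero (hg ▸ ⟨2 * N, by ring⟩), hg]
  omega

theorem symp_range_double (hn : 0 < n) {N : ℕ} (h : SMem F n (4 * N)) :
    2 * N ∈ Set.range (orderOf : Cfsg.PSp n F → ℕ) := by
  obtain ⟨g, hg⟩ := h
  set d := orderOf (QuotientGroup.mk g : Cfsg.PSp n F) with hd
  have h1 : (QuotientGroup.mk (g ^ d) : Cfsg.PSp n F) = 1 := by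
    rw [QuotientGroup.mk_pow, hd, pow_orderOf_eq_one]
  obtain ⟨t, ht, ht2⟩ := (CfsgLib.SpectrumPowers.mk_eq_one_iff_Sp hn _).1 h1
  have h3 : g ^ (d * 2) = 1 := Subtype.ext (by
    rw [pow_mul, SubmonoidClass.coe_pow, ht, ← map_pow, ht2, map_one]
    rfl)
  have h4 : 2 * N ∣ d := by
    have := hg ▸ orderOf_dvd_of_pow_eq_one h3
    rw [show 4 * N = 2 * N * 2 by ring] at this
    exact Nat.dvd_of_mul_dvd_mul_right two_pos this
  exact ⟨_, orderOf_pow_orderOf_div (orderOf_pos _).ne' h4⟩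

theorem det_of_omega {Q : (Unit ⊕ (Fin n ⊕ Fin n) → F) → F} {w : Cfsg.isometryGroup F Q}
    (hw : w ∈ Cfsg.Omega F Q) : w.1.1.det = 1 := by
  have hdet : Cfsg.Omega F Q ≤ (Matrix.GeneralLinearGroup.det.comp (Cfsg.isometryGroup F Q).subtype).ker :=
    Abelianization.commutator_subset_ker _
  have h1 := congrArg Units.val (MonoidHom.mem_ker.1 (hdet hw))
  simpa [Matrix.GeneralLinearGroup.val_det_apply] using h1

theorem eig_omega (h2 : (2 : F) ≠ 0) (p : ℕ) [Fact p.Prime] [CharP F p]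
    (w : Cfsg.isometryGroup F ⇑(Qo (F := F) n)) (hw : w ∈ Cfsg.Omega F ⇑(Qo (F := F) n)) :
    Eig p n w.1.1 :=
  eig_orth h2 p (by simp; ring) (Qo_nondeg h2 n) w (det_of_omega hw)

theorem smem_order {A : Matrix.symplecticGroup (Fin n) F} : orderOf A.1 = orderOf A :=
  orderOf_injective (Matrix.symplecticGroup (Fin n) F).subtype (Submonoid.subtype_injective _) A

variable (p : ℕ) [hp : Fact p.Prime] [CharP F p]

include p hp

theorem two_primes (hodd : Odd (Fintype.card F)) (h2 : (2 : F) ≠ 0) (hn : 2 ≤ n) {r s : ℕ} (hr : r.Prime)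
    (hs : s.Prime) (hr2 : r ≠ 2) (hs2 : s ≠ 2) (hrp : r ≠ p) (hsp : s ≠ p) (hrs : r ≠ s) :
    (r * s ∈ Set.range (orderOf : Cfsg.POmega F (Cfsg.quadFormOdd n F) → ℕ)) ↔
      (r * s ∈ Set.range (orderOf : Cfsg.PSp n F → ℕ)) := by
  have hN : Odd (r * s) := (hr.odd_of_ne_two hr2).mul (hs.odd_of_ne_two hs2)
  have hco : Nat.Coprime r s := (Nat.coprime_primes hr hs).2 hrs
  constructor
  · intro h
    obtain ⟨w, hw, ho⟩ := (range_POmega_iff h2 hn _).1 h
    have key : SMem F n (r * s) := by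
      rcases eig_two_primes p n hr hs hr2 hs2 hrp hsp hrs (eig_omega h2 p w hw) (by rw [orderOf_iso, ho]) with
        ⟨a, b, hab, ha, hb⟩ | ⟨a, hab, ha⟩
      · exact symp_pair p hab ha hb hco
      · exact symp_one p hab ha
    obtain ⟨g, hg⟩ := key
    exact CfsgLib.PSpGraph.exists_proj p (by omega) (Or.inl hN) g hg
  · rintro ⟨g, hg⟩
    obtain ⟨A, hA⟩ := CfsgLib.PSpGraph.exists_lift p (by omega) (Or.inl hN) g hg
    refine orth_range_odd h2 hn hN ?_
    rcases eig_two_primes p n hr hs hr2 hs2 hrp hsp hrs (eig_symp p (by omega) A) (by rw [smem_order, hA]) with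
      ⟨a, b, hab, ha, hb⟩ | ⟨a, hab, ha⟩
    · exact orth_pair h2 p hab ha hb hco
    · exact orth_one h2 p hab ha

theorem char_prime (hodd : Odd (Fintype.card F)) (h2 : (2 : F) ≠ 0) (hn : 2 ≤ n) {r : ℕ} (hr : r.Prime)
    (hr2 : r ≠ 2) (hp2 : p ≠ 2) (hrp : r ≠ p) :
    (r * p ∈ Set.range (orderOf : Cfsg.POmega F (Cfsg.quadFormOdd n F) → ℕ)) ↔
      (r * p ∈ Set.range (orderOf : Cfsg.PSp n F → ℕ)) := by
  have hN : Odd (r * p) := (hr.odd_of_ne_two hr2).mul (hp.out.odd_of_ne_two hp2)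
  have hco : Nat.Coprime r p := (Nat.coprime_primes hr hp.out).2 hrp
  constructor
  · intro h
    obtain ⟨w, hw, ho⟩ := (range_POmega_iff h2 hn _).1 h
    obtain ⟨a, han, ha⟩ := eig_char p n hr hr2 hrp (eig_omega h2 p w hw) (by rw [orderOf_iso, ho])
    obtain ⟨g, hg⟩ := symp_char p han ha hco
    exact CfsgLib.PSpGraph.exists_proj p (by omega) (Or.inl hN) g hg
  · rintro ⟨g, hg⟩
    obtain ⟨A, hA⟩ := CfsgLib.PSpGraph.exists_lift p (by omega) (Or.inl hN) g hg
    obtain ⟨a, han, ha⟩ := eig_char p n hr hr2 hrp (eig_symp p (by omega) A) (by rw [smem_order, hA])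
    exact orth_range_odd h2 hn hN (orth_char h2 p hodd han ha hco)

theorem two_char (hodd : Odd (Fintype.card F)) (h2 : (2 : F) ≠ 0) (hn : 2 ≤ n) (hp2 : p ≠ 2) :
    (2 * p ∈ Set.range (orderOf : Cfsg.POmega F (Cfsg.quadFormOdd n F) → ℕ)) ↔
      (2 * p ∈ Set.range (orderOf : Cfsg.PSp n F → ℕ)) := by
  have hco : Nat.Coprime 4 p := by
    rw [show 4 = 2 ^ 2 from rfl]
    exact ((Nat.coprime_primes Nat.prime_two hp.out).2 (Ne.symm hp2)).pow_left 2
  exact iff_of_true (orth_range_double h2 hn (orth_char h2 p hodd (by omega) (T_one_four hodd) hco))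
    (symp_range_double (by omega) (symp_char p (by omega) (T_one_four hodd) hco))

theorem two_prime (hodd : Odd (Fintype.card F)) (h2 : (2 : F) ≠ 0) (hn : 2 ≤ n) {r : ℕ} (hr : r.Prime)
    (hr2 : r ≠ 2) (hp2 : p ≠ 2) (hrp : r ≠ p) :
    (2 * r ∈ Set.range (orderOf : Cfsg.POmega F (Cfsg.quadFormOdd n F) → ℕ)) ↔
      (2 * r ∈ Set.range (orderOf : Cfsg.PSp n F → ℕ)) := by
  have hco : Nat.Coprime 4 r := by
    rw [show 4 = 2 ^ 2 from rfl]
    exact ((Nat.coprime_primes Nat.prime_two hr).2 (Ne.symm hr2)).pow_left 2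
  have hp4 : ¬ p ∣ 4 * r := fun h => by
    rcases hp.out.dvd_mul.1 h with h | h
    · exact hp2 ((Nat.prime_dvd_prime_iff_eq hp.out Nat.prime_two).1
        (hp.out.dvd_of_dvd_pow (show p ∣ 2 ^ 2 from h)))
    · exact hrp ((Nat.prime_dvd_prime_iff_eq hp.out hr).1 h).symm
  have hrq : ¬ r ∣ Fintype.card F := fun h =>
    hr.ne_one (Nat.eq_one_of_dvd_coprimes (CfsgLib.PSpGraph.coprime_card (F := F) hr hrp) h dvd_rfl)
  by_cases hlow : ∃ a, a < n ∧ T (Fintype.card F) r a
  · obtain ⟨a, han, ha⟩ := hlow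
    exact iff_of_true (orth_range_double h2 hn (orth_pair h2 p (show 1 + a ≤ n by omega) (T_one_four hodd) ha hco))
      (symp_range_double (by omega) (symp_pair p (show 1 + a ≤ n by omega) (T_one_four hodd) ha hco))
  push Not at hlow
  by_cases htop : T (Fintype.card F) (4 * r) n
  · exact iff_of_true (orth_range_double h2 hn (orth_one h2 p le_rfl htop))
      (symp_range_double (by omega) (symp_one p le_rfl htop))
  refine iff_of_false (fun h => htop ?_) fun h => htop ?_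
  · obtain ⟨w, hw, ho⟩ := (range_POmega_iff h2 hn _).1 h
    have hoM : orderOf w.1.1 = 2 * r := by rw [orderOf_iso, ho]
    obtain ⟨N, hrN, hNM, hTN, hnd, hf⟩ := eig_top p n hr hr2 hrp (eig_omega h2 p w hw) hlow
      (hoM ▸ Dvd.intro_left 2 rfl) (hoM ▸ fun h => hp4 (h.trans (mul_dvd_mul_right (by norm_num) r)))
    obtain ⟨d, rfl⟩ := hrN
    rw [hoM, mul_comm r d] at hNM
    rcases (Nat.dvd_prime Nat.prime_two).1 (Nat.dvd_of_mul_dvd_mul_right hr.pos hNM) with rfl | rfl
    · exfalso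
      have h1 := hf (X ^ r - 1) (fun t ht => by
        rw [map_sub, map_pow, aeval_X, map_one, show t ^ r = 1 by rw [show r = orderOf t by simpa using ht.symm]; exact pow_orderOf_eq_one t,
          sub_self]) (fun _ => by simp)
      rw [map_sub, map_pow, aeval_X, map_one, sub_eq_zero] at h1
      have := Nat.le_of_dvd hr.pos (hoM ▸ orderOf_dvd_of_pow_eq_one h1)
      have := hr.pos
      omega
    · refine orth_two hodd h2 (by omega) hr hr2 hrq w hw ho hnd ?_ hlow (T_of_dvd (Dvd.intro 2 rfl) hTN)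
      refine hf _ (fun t ht => ?_) fun _ => by simp
      have h1 : (t ^ r) ^ 2 = 1 := by rw [← pow_mul, ← ht, pow_orderOf_eq_one]
      rcases sq_eq_one_iff.1 h1 with h | h
      · exfalso
        have := Nat.le_of_dvd hr.pos (ht ▸ orderOf_dvd_of_pow_eq_one h)
        have := hr.pos
        omega
      · simp [h]
  · obtain ⟨g, hg⟩ := h
    obtain ⟨z, rfl⟩ := QuotientGroup.mk_surjective g
    have hr0 := hr.pos
    have h4r : z ^ (4 * r) = 1 := by
      have h1 : (QuotientGroup.mk (z ^ (2 * r)) : Cfsg.PSp n F) = 1 := by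
        rw [QuotientGroup.mk_pow, ← hg, pow_orderOf_eq_one]
      obtain ⟨t, ht, ht2⟩ := (CfsgLib.SpectrumPowers.mk_eq_one_iff_Sp (by omega) _).1 h1
      refine Subtype.ext ?_
      rw [show 4 * r = 2 * r * 2 by ring, pow_mul, SubmonoidClass.coe_pow, ht, ← map_pow, ht2, map_one]
      rfl
    have hoz : 2 * r ∣ orderOf z := hg ▸ orderOf_map_dvd (QuotientGroup.mk' _) z
    have hzo : orderOf z ∣ 4 * r := orderOf_dvd_of_pow_eq_one h4r
    obtain ⟨N, hrN, hNM, hTN, -, hf⟩ := eig_top p n hr hr2 hrp (eig_symp p (by omega) z) hlow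
      (smem_order (A := z) ▸ (Dvd.intro_left 2 rfl).trans hoz) (smem_order (A := z) ▸ fun h => hp4 (h.trans hzo))
    obtain ⟨d, rfl⟩ := hrN
    rw [smem_order] at hNM
    have hd : d ∣ 4 := Nat.dvd_of_mul_dvd_mul_right hr.pos (by rw [mul_comm d r]; exact hNM.trans hzo)
    obtain ⟨k, hk, rfl⟩ := (Nat.dvd_prime_pow Nat.prime_two).1 (show d ∣ 2 ^ 2 from hd)
    interval_cases k
    · exfalso
      have h1 := hf (X ^ r - 1) (fun t ht => by
        rw [map_sub, map_pow, aeval_X, map_one, show t ^ r = 1 by rw [show r = orderOf t by simpa using ht.symm]; exact pow_orderOf_eq_one t,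
          sub_self]) (fun _ => by simp)
      rw [map_sub, map_pow, aeval_X, map_one, sub_eq_zero] at h1
      have := Nat.le_of_dvd hr.pos (hoz.trans (orderOf_dvd_of_pow_eq_one (Subtype.ext h1 : z ^ r = 1)))
      omega
    · exfalso
      have h1 := hf (X ^ r + 1) (fun t ht => by
        rw [pow_one] at ht
        have h1 : (t ^ r) ^ 2 = 1 := by rw [← pow_mul, ← ht, pow_orderOf_eq_one]
        rcases sq_eq_one_iff.1 h1 with h | h
        · exfalso
          have := Nat.le_of_dvd hr.pos (ht ▸ orderOf_dvd_of_pow_eq_one h)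
          omega
        · simp [h]) (fun h => absurd (by simp) h)
      rw [map_add, map_pow, aeval_X, map_one, add_eq_zero_iff_eq_neg] at h1
      have h3 : (QuotientGroup.mk z : Cfsg.PSp n F) ^ r = 1 := by
        rw [← QuotientGroup.mk_pow, CfsgLib.SpectrumPowers.mk_eq_one_iff_Sp (by omega)]
        exact ⟨-1, by rw [SubmonoidClass.coe_pow, h1, map_neg, map_one], by ring⟩
      have := Nat.le_of_dvd hr.pos (hg ▸ orderOf_dvd_of_pow_eq_one h3)
      omega
    · exact T_of_dvd (by rw [mul_comm r]; norm_num) hTN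

theorem prime_graph_eq (hodd : Odd (Fintype.card F)) (hn : 2 ≤ n) {r s : ℕ} (hr : r.Prime) (hs : s.Prime)
    (hrs : r ≠ s) :
    (r * s ∈ Set.range (orderOf : Cfsg.POmega F (Cfsg.quadFormOdd n F) → ℕ)) ↔
      (r * s ∈ Set.range (orderOf : Cfsg.PSp n F → ℕ)) := by
  have h2 : (2 : F) ≠ 0 := CfsgLib.FiniteForms.two_ne_zero_of_odd rfl hodd
  have hp2 : p ≠ 2 := fun h => by
    obtain ⟨a, ha, hF⟩ := CfsgLib.PSpGraph.card_eq_pow F p
    rw [hF, h] at hodd
    exact (Nat.not_odd_iff_even.2 ((even_two).pow_of_ne_zero (by omega))) hodd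
  rcases eq_or_ne r 2 with rfl | hr2
  · rcases eq_or_ne s p with rfl | hsp
    · exact two_char s hodd h2 hn hp2
    · exact two_prime p hodd h2 hn hs (Ne.symm hrs) hp2 hsp
  rcases eq_or_ne s 2 with rfl | hs2
  · rw [mul_comm]
    rcases eq_or_ne r p with rfl | hrp
    · exact two_char r hodd h2 hn hp2
    · exact two_prime p hodd h2 hn hr hr2 hp2 hrp
  rcases eq_or_ne r p with rfl | hrp
  · rw [mul_comm]
    exact char_prime r hodd h2 hn hs hs2 hp2 (Ne.symm hrs)
  rcases eq_or_ne s p with rfl | hsp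
  · exact char_prime s hodd h2 hn hr hr2 hp2 hrp
  exact two_primes p hodd h2 hn hr hs hr2 hs2 hrp hsp hrs

end CfsgLib.PrimeGraphBC
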