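import Cfsg.Agent.Lib.SemisimplePrimeClasses.Orthogonal
import Cfsg.Agent.Lib.SemisimplePrimeClasses.Symplectic
import Cfsg.Agent.Lib.PSpGraph.Basic

/-! Eigenvalue conditions on orders of symplectic and odd-dimensional orthogonal matrices. -/

set_option autoImplicit false
set_option maxHeartbeats 1000000

namespace CfsgLib.PrimeGraphBC

open Polynomial Matrix CfsgLib.SemisimplePrimeClasses

/-- `N` divides the order of a cyclic torus `q ^ a ± 1`. -/
def T (q N a : ℕ) : Prop := 0 < a ∧ (N ∣ q ^ a + 1 ∨ N ∣ q ^ a - 1)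

theorem T_of_dvd {q N M a : ℕ} (hd : M ∣ N) (h : T q N a) : T q M a :=
  ⟨h.1, h.2.imp hd.trans hd.trans⟩

/-- A set of roots of unity closed under `t ↦ t ^ q` and inversion contains a torus orbit. -/
theorem orbit_torus {Ω : Type*} [Field Ω] {q N : ℕ} (hq : 0 < q) (hN : 2 < N) (hqN : Nat.Coprime q N)
    (R : Finset Ω) (hR : ∀ t ∈ R, t ^ q ∈ R ∧ t⁻¹ ∈ R) {t : Ω} (ht : t ∈ R) (hto : orderOf t = N) :
    ∃ a, T q N a ∧ 2 * a ≤ (R.filter fun u => orderOf u = N).card := by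
  obtain ⟨h1, h2⟩ := CfsgLib.PSpGraph.orbit_bound (by omega) hqN R hR ht hto
  set L := orderOf (q : ZMod N) with hL
  have hL0 : 0 < L := orderOf_pos_iff.2 (isOfFinOrder_iff_pow_eq_one.2
    ⟨N.totient, Nat.totient_pos.2 (by omega), by
      rw [← Nat.cast_pow, ← Nat.cast_one (R := ZMod N), ZMod.natCast_eq_natCast_iff]
      exact Nat.ModEq.pow_totient hqN⟩)
  by_cases hneg : ∀ i : ℕ, (q : ZMod N) ^ i ≠ -1
  · refine ⟨L, ⟨hL0, Or.inr ?_⟩, h2 hneg⟩
    rw [← ZMod.natCast_eq_zero_iff, Nat.cast_sub (Nat.one_le_pow _ _ hq), Nat.cast_pow, hL,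
      pow_orderOf_eq_one, Nat.cast_one, sub_self]
  · push Not at hneg
    obtain ⟨i, hi⟩ := hneg
    rw [← pow_mod_orderOf, ← hL] at hi
    set j := i % L
    have hjL : j < L := Nat.mod_lt _ hL0
    haveI : Fact (2 < N) := ⟨hN⟩
    have hj0 : 0 < j := by
      refine Nat.pos_of_ne_zero fun h => ?_
      rw [h, pow_zero] at hi
      exact ZMod.neg_one_ne_one hi.symm
    have h3 : L ∣ 2 * j := hL ▸ orderOf_dvd_of_pow_eq_one (by rw [mul_comm, pow_mul, hi]; ring)
    have h4 : 2 * j = L := by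
      obtain ⟨c, hc⟩ := h3
      rcases Nat.lt_or_ge c 2 with h | h
      · interval_cases c <;> omega
      · have := Nat.mul_le_mul_left L h
        omega
    refine ⟨j, ⟨hj0, Or.inl ?_⟩, h4 ▸ h1⟩
    rw [← ZMod.natCast_eq_zero_iff, Nat.cast_add, Nat.cast_pow, hi, Nat.cast_one, neg_add_cancel]

variable {F : Type*} [Field F] [Fintype F] {ι : Type} [Fintype ι] [DecidableEq ι]

/-- The eigenvalue data of a matrix: at most `2n` eigenvalues besides `1`. -/
def Eig (p n : ℕ) (M : Matrix ι ι F) : Prop :=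
  ∃ R : Finset (AlgebraicClosure F), R.card ≤ n + n ∧
    (∀ t ∈ R, t ^ orderOf M = 1 ∧ t ^ Fintype.card F ∈ R ∧ t⁻¹ ∈ R ∧ t ≠ 1) ∧
    (∀ K : ℕ, 0 < K → (∀ t ∈ R, t ^ K = 1) → ∃ c : ℕ, M ^ (p ^ c * K) = 1) ∧
    (R.card = n + n → (matRoots M).Nodup ∧ ∀ f : F[X], (∀ t ∈ R, aeval t f = 0) →
      (Fintype.card ι ≠ n + n → aeval (1 : AlgebraicClosure F) f = 0) → aeval M f = 0)

theorem eig_of_roots (p n : ℕ) [Fact p.Prime] [CharP F p] [Nonempty ι] (M : Matrix ι ι F) (hM : 0 < orderOf M)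
    (h1 : (matRoots M).map (fun t => t ^ Fintype.card F) = matRoots M)
    (h2 : (matRoots M).map (·⁻¹) = matRoots M)
    (hι : Fintype.card ι = n + n ∨ (Fintype.card ι = n + n + 1 ∧ (1 : AlgebraicClosure F) ∈ matRoots M)) :
    Eig p n M := by
  classical
  haveI : CharP (AlgebraicClosure F) p :=
    charP_of_injective_algebraMap (algebraMap F (AlgebraicClosure F)).injective p
  set ms := matRoots M with hms
  have hcard : Multiset.card ms = Fintype.card ι := matRoots_card M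
  have hpow : ∀ t ∈ ms, t ^ orderOf M = 1 := fun t ht => matRoots_pow (pow_orderOf_eq_one M) ht
  have hle : ms.toFinset.card ≤ Fintype.card ι := hcard ▸ ms.toFinset_card_le
  have hR : (ms.toFinset.erase 1).card ≤ n + n := by
    rcases hι with h | ⟨h, h1'⟩
    · exact (Finset.card_erase_le).trans (h ▸ hle)
    · rw [Finset.card_erase_of_mem (Multiset.mem_toFinset.2 h1')]
      omega
  refine ⟨ms.toFinset.erase 1, hR, fun t ht => ?_, fun K hK h => ?_, fun hc => ?_⟩
  · rw [Finset.mem_erase, Multiset.mem_toFinset] at ht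
    obtain ⟨ht1, ht⟩ := ht
    refine ⟨hpow t ht, ?_, ?_, ht1⟩
    · rw [Finset.mem_erase, Multiset.mem_toFinset]
      refine ⟨fun h => ht1 ?_, h1 ▸ Multiset.mem_map_of_mem _ ht⟩
      obtain ⟨a, -, ha⟩ := CfsgLib.PSpGraph.card_eq_pow F p
      exact (iterateFrobenius (AlgebraicClosure F) p a).injective
        (by simpa [iterateFrobenius_def, ← ha] using h)
    · rw [Finset.mem_erase, Multiset.mem_toFinset]
      exact ⟨fun h => ht1 (inv_eq_one.1 h), h2 ▸ Multiset.mem_map_of_mem _ ht⟩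
  · refine ⟨Nat.clog p (Fintype.card ι), ?_⟩
    have h3 := CfsgLib.SpectrumPowers.pow_eq_one_of_roots p (M.map (algebraMap F (AlgebraicClosure F))) hK
      (e := Fintype.card ι) fun t ht => ⟨by
        by_cases ht1 : t = 1
        · rw [ht1, one_pow]
        · exact h t (Finset.mem_erase.2 ⟨ht1, Multiset.mem_toFinset.2 ht⟩),
        le_of_le_of_eq (Multiset.count_le_card t _) hcard⟩
    rw [← Matrix.map_pow, ← Matrix.map_one (algebraMap F (AlgebraicClosure F)) (map_zero _) (map_one _)] at h3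
    exact Matrix.map_injective (algebraMap F (AlgebraicClosure F)).injective h3
  · have hnd : ms.Nodup := by
      refine Multiset.toFinset_card_eq_card_iff_nodup.1 (le_antisymm ms.toFinset_card_le ?_)
      rw [hcard]
      rcases hι with h | ⟨h, h1'⟩
      · rw [h, ← hc]; exact Finset.card_erase_le
      · rw [Finset.card_erase_of_mem (Multiset.mem_toFinset.2 h1')] at hc
        have := Finset.card_pos.2 ⟨_, Multiset.mem_toFinset.2 h1'⟩
        omega
    refine ⟨hnd, fun f hf hf1 => ?_⟩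
    have hall : ∀ t ∈ ms, aeval t f = 0 := fun t ht => by
      by_cases ht1 : t = 1
      · subst ht1
        refine hf1 fun h => ?_
        rw [Finset.card_erase_of_mem (Multiset.mem_toFinset.2 ht),
          Multiset.toFinset_card_of_nodup hnd, hcard] at hc
        have := Fintype.card_pos (α := ι)
        omega
      · exact hf t (Finset.mem_erase.2 ⟨ht1, Multiset.mem_toFinset.2 ht⟩)
    by_cases hf0 : f = 0
    · rw [hf0, map_zero]
    have hdvd : M.charpoly.map (algebraMap F (AlgebraicClosure F)) ∣ f.map (algebraMap F (AlgebraicClosure F)) := by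
      rw [prod_matRoots, ← hms]
      refine (Multiset.prod_X_sub_C_dvd_iff_le_roots (Polynomial.map_ne_zero hf0) ms).2 ?_
      refine (Multiset.le_iff_subset hnd).2 fun t ht => ?_
      rw [mem_roots (Polynomial.map_ne_zero hf0), IsRoot, eval_map_algebraMap]
      exact hall t ht
    obtain ⟨g, rfl⟩ := (Polynomial.map_dvd_map' (algebraMap F (AlgebraicClosure F))).1 hdvd
    rw [map_mul, Matrix.aeval_self_charpoly, zero_mul]

theorem eig_symp (p : ℕ) [Fact p.Prime] [CharP F p] {n : ℕ} (hn : 0 < n) (A : Matrix.symplecticGroup (Fin n) F) :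
    Eig p n A.1 := by
  haveI : Nonempty (Fin n ⊕ Fin n) := ⟨Sum.inl ⟨0, hn⟩⟩
  obtain ⟨h1, h2⟩ := spRoots_invariant p A
  refine eig_of_roots p n A.1 ?_ h1 h2 (Or.inl (by simp))
  rw [show A.1 = (Matrix.symplecticGroup (Fin n) F).subtype A from rfl,
    orderOf_injective _ (Submonoid.subtype_injective _)]
  exact orderOf_pos A

theorem orderOf_iso {Q : (ι → F) → F} (g : Cfsg.isometryGroup F Q) : orderOf g.1.1 = orderOf g := by
  rw [← Subgroup.orderOf_coe g, ← orderOf_units]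

/-- A special orthogonal matrix in odd dimension fixes a vector. -/
theorem one_mem_of_det_one (h2 : (2 : F) ≠ 0) {n : ℕ} (hι : Fintype.card ι = n + n + 1) {Q : QuadraticForm F (ι → F)}
    (hQ : (QuadraticMap.polarBilin Q).Nondegenerate) (g : Cfsg.isometryGroup F ⇑Q) (hd : g.1.1.det = 1) :
    (1 : AlgebraicClosure F) ∈ matRoots g.1.1 := by
  set G := CfsgLib.FiniteForms.polarMat ⇑Q
  set A := g.1.1 with hA
  have hG : G.det ≠ 0 := CfsgLib.FiniteForms.polarMat_det_ne_zero hQ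
  have hAG : Aᵀ * G * A = G := by
    refine Matrix.ext fun i j => ?_
    have e : ∀ x, Q (A *ᵥ x) = Q x := fun x => g.2 x x
    have h1 : (A *ᵥ Pi.single i 1) ⬝ᵥ (G *ᵥ (A *ᵥ Pi.single j 1)) =
        (Pi.single i 1 : ι → F) ⬝ᵥ (G *ᵥ Pi.single j 1) := by
      rw [← CfsgLib.FiniteForms.polar_eq, ← CfsgLib.FiniteForms.polar_eq]
      simp only [QuadraticMap.polar, ← Matrix.mulVec_add, e]
    have h2 : ∀ (K : Matrix ι ι F) (u v : ι → F),
        (A *ᵥ u) ⬝ᵥ (K *ᵥ (A *ᵥ v)) = u ⬝ᵥ ((Aᵀ * K * A) *ᵥ v) := fun K u v => by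
      rw [Matrix.mul_assoc, ← mulVec_mulVec, dotProduct_mulVec u Aᵀ, vecMul_transpose, mulVec_mulVec]
    rw [h2] at h1
    simpa using h1
  have h : (A - 1)ᵀ * G * A = -(G * (A - 1)) := by
    rw [Matrix.transpose_sub, Matrix.transpose_one, Matrix.sub_mul, Matrix.sub_mul, hAG, Matrix.one_mul,
      Matrix.mul_sub, Matrix.mul_one, neg_sub]
  have h0 := congrArg Matrix.det h
  rw [Matrix.det_neg, Matrix.det_mul, Matrix.det_mul, Matrix.det_mul, Matrix.det_transpose, hd, hι,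
    Odd.neg_one_pow ⟨n, by ring⟩, mul_one] at h0
  have hz : (A - 1).det = 0 := by
    refine (mul_eq_zero.1 (show (2 * G.det) * (A - 1).det = 0 by linear_combination h0)).resolve_left ?_
    exact mul_ne_zero h2 hG
  obtain ⟨v, hv, hv'⟩ := Matrix.exists_mulVec_eq_zero_iff.2 hz
  rw [Matrix.sub_mulVec, Matrix.one_mulVec, sub_eq_zero] at hv'
  exact one_mem_matRoots hv hv'

theorem eig_orth (h2 : (2 : F) ≠ 0) (p : ℕ) [Fact p.Prime] [CharP F p] {n : ℕ}
    (hι : Fintype.card ι = n + n + 1) {Q : QuadraticForm F (ι → F)}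
    (hQ : (QuadraticMap.polarBilin Q).Nondegenerate) (g : Cfsg.isometryGroup F ⇑Q) (hd : g.1.1.det = 1) :
    Eig p n g.1.1 := by
  haveI : Nonempty ι := Fintype.card_pos_iff.1 (by omega)
  obtain ⟨a, -, ha⟩ := CfsgLib.PSpGraph.card_eq_pow F p
  obtain ⟨h1, h2'⟩ := matRoots_invariant p a ha hQ g
  refine eig_of_roots p n g.1.1 ?_ h1 h2' (Or.inr ⟨hι, one_mem_of_det_one h2 hι hQ g hd⟩)
  rw [orderOf_iso]
  exact orderOf_pos g

theorem order_dvd_of_pow {M : Matrix ι ι F} {p K c u : ℕ} (hu : u.Prime) (hp : p.Prime) (hup : u ≠ p)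
    (hd : u ∣ orderOf M) (h : M ^ (p ^ c * K) = 1) : u ∣ K := by
  rcases hu.dvd_mul.1 (hd.trans (orderOf_dvd_of_pow_eq_one h)) with h' | h'
  · exact absurd ((Nat.prime_dvd_prime_iff_eq hu hp).1 (hu.dvd_of_dvd_pow h')) hup
  · exact h'

/-- Two odd primes. -/
theorem eig_two_primes (p n : ℕ) [Fact p.Prime] [CharP F p] {r s : ℕ} (hr : r.Prime) (hs : s.Prime)
    (hr2 : r ≠ 2) (hs2 : s ≠ 2) (hrp : r ≠ p) (hsp : s ≠ p) (hrs : r ≠ s) {M : Matrix ι ι F}
    (hE : Eig p n M) (ho : orderOf M = r * s) :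
    (∃ a b, a + b ≤ n ∧ T (Fintype.card F) r a ∧ T (Fintype.card F) s b) ∨
      ∃ a, a ≤ n ∧ T (Fintype.card F) (r * s) a := by
  classical
  obtain ⟨R, hRc, hRt, hRM, -⟩ := hE
  have hqr := CfsgLib.PSpGraph.coprime_card (F := F) hr hrp
  have hqs := CfsgLib.PSpGraph.coprime_card (F := F) hs hsp
  have hcl : ∀ t ∈ R, t ^ Fintype.card F ∈ R ∧ t⁻¹ ∈ R := fun t ht => ⟨(hRt t ht).2.1, (hRt t ht).2.2.1⟩
  have hr3 : 2 < r := lt_of_le_of_ne hr.two_le (Ne.symm hr2)
  have hs3 : 2 < s := lt_of_le_of_ne hs.two_le (Ne.symm hs2)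
  by_cases hex : ∃ t ∈ R, orderOf t = r * s
  · obtain ⟨t, ht, hto⟩ := hex
    obtain ⟨a, ha, hle⟩ := orbit_torus Fintype.card_pos (by nlinarith) (hqr.mul_right hqs) R hcl ht hto
    have := Finset.card_filter_le R fun u => orderOf u = r * s
    exact Or.inr ⟨a, by omega, ha⟩
  push Not at hex
  have hdvd : ∀ t ∈ R, orderOf t = r ∨ orderOf t = s := fun t ht => by
    have h1 : orderOf t ∣ r * s := ho ▸ orderOf_dvd_of_pow_eq_one (hRt t ht).1
    obtain ⟨d1, d2, hd1, hd2, hd⟩ := Nat.dvd_mul.1 h1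
    rcases (Nat.dvd_prime hr).1 hd1 with rfl | rfl <;> rcases (Nat.dvd_prime hs).1 hd2 with rfl | rfl
    · exact absurd (orderOf_eq_one_iff.1 (by rw [← hd])) (hRt t ht).2.2.2
    · exact Or.inr (by rw [← hd, one_mul])
    · exact Or.inl (by rw [← hd, mul_one])
    · exact absurd hd.symm (hex t ht)
  have hclass : ∀ u v : ℕ, u.Prime → v.Prime → u ≠ v → u ≠ p → u ∣ r * s →
      (∀ t ∈ R, orderOf t = u ∨ orderOf t = v) → ∃ t ∈ R, orderOf t = u := by
    intro u v hu hv huv hup hd hall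
    by_contra hc
    push Not at hc
    obtain ⟨c, hM⟩ := hRM v hv.pos fun t ht => by
      rw [← (hall t ht).resolve_left (hc t ht)]; exact pow_orderOf_eq_one t
    exact huv ((Nat.prime_dvd_prime_iff_eq hu hv).1 (order_dvd_of_pow hu Fact.out hup (ho ▸ hd) hM))
  obtain ⟨t1, ht1, ho1⟩ := hclass r s hr hs hrs hrp (Dvd.intro s rfl) hdvd
  obtain ⟨t2, ht2, ho2⟩ := hclass s r hs hr (Ne.symm hrs) hsp (Dvd.intro_left r rfl) fun t ht => (hdvd t ht).symm
  obtain ⟨a, ha, hale⟩ := orbit_torus Fintype.card_pos hr3 hqr R hcl ht1 ho1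
  obtain ⟨b, hb, hble⟩ := orbit_torus Fintype.card_pos hs3 hqs R hcl ht2 ho2
  refine Or.inl ⟨a, b, ?_, ha, hb⟩
  have e3 : (R.filter fun u => orderOf u = r).card + (R.filter fun u => orderOf u = s).card ≤ R.card := by
    rw [← Finset.card_union_of_disjoint (Finset.disjoint_filter.2 fun x _ h1 h2 => hrs (h1.symm.trans h2))]
    exact Finset.card_le_card (Finset.union_subset (Finset.filter_subset _ _) (Finset.filter_subset _ _))
  omega

/-- The characteristic and another odd prime. -/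
theorem eig_char (p n : ℕ) [Fact p.Prime] [CharP F p] {r : ℕ} (hr : r.Prime) (hr2 : r ≠ 2) (hrp : r ≠ p)
    {M : Matrix ι ι F} (hE : Eig p n M) (ho : orderOf M = r * p) :
    ∃ a, a < n ∧ T (Fintype.card F) r a := by
  classical
  have hp : p.Prime := Fact.out
  haveI := Fact.mk hr
  haveI : CharP (AlgebraicClosure F) p :=
    charP_of_injective_algebraMap (algebraMap F (AlgebraicClosure F)).injective p
  haveI := ExpChar.prime (R := AlgebraicClosure F) hp
  obtain ⟨R, hRc, hRt, hRM, hRS⟩ := hE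
  have hr1 : ∀ t ∈ R, orderOf t = r := fun t ht => by
    have h := (hRt t ht).1
    rw [ho, mul_comm, ← pow_one p] at h
    exact orderOf_eq_prime (ExpChar.pow_prime_pow_mul_eq_one_iff _ _ _ _ |>.1 h) (hRt t ht).2.2.2
  obtain ⟨t, ht⟩ : R.Nonempty := by
    by_contra hc
    rw [Finset.not_nonempty_iff_eq_empty] at hc
    obtain ⟨c, hM⟩ := hRM 1 one_pos (by simp [hc])
    exact hr.ne_one (Nat.dvd_one.1 (order_dvd_of_pow hr hp hrp (ho ▸ Dvd.intro p rfl) hM))
  obtain ⟨a, ha, hle⟩ := orbit_torus Fintype.card_pos (lt_of_le_of_ne hr.two_le (Ne.symm hr2))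
    (CfsgLib.PSpGraph.coprime_card hr hrp) R (fun t ht => ⟨(hRt t ht).2.1, (hRt t ht).2.2.1⟩) ht (hr1 t ht)
  have := Finset.card_filter_le R fun u => orderOf u = r
  refine ⟨a, lt_of_le_of_ne (by omega) fun han => ?_, ha⟩
  obtain ⟨-, hf⟩ := hRS (by omega)
  have h1 := hf (X ^ r - 1) (fun t ht => by
    rw [map_sub, map_pow, aeval_X, map_one, ← hr1 t ht, pow_orderOf_eq_one, sub_self])
    (fun _ => by simp)
  rw [map_sub, map_pow, aeval_X, map_one, sub_eq_zero] at h1
  have h2 := Nat.le_of_dvd hr.pos (ho ▸ orderOf_dvd_of_pow_eq_one h1)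
  have := hp.two_le
  nlinarith [hr.pos]

/-- When the torus of `r` fills the space, all eigenvalues have the same order. -/
theorem eig_top (p n : ℕ) [Fact p.Prime] [CharP F p] {r : ℕ} (hr : r.Prime) (hr2 : r ≠ 2) (hrp : r ≠ p)
    {M : Matrix ι ι F} (hE : Eig p n M) (hno : ∀ a, a < n → ¬ T (Fintype.card F) r a)
    (hrd : r ∣ orderOf M) (hpd : ¬ p ∣ orderOf M) :
    ∃ N, r ∣ N ∧ N ∣ orderOf M ∧ T (Fintype.card F) N n ∧ (matRoots M).Nodup ∧
      ∀ f : F[X], (∀ t : AlgebraicClosure F, orderOf t = N → aeval t f = 0) →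
        (Fintype.card ι ≠ n + n → aeval (1 : AlgebraicClosure F) f = 0) → aeval M f = 0 := by
  classical
  have hp : p.Prime := Fact.out
  obtain ⟨R, hRc, hRt, hRM, hRS⟩ := hE
  obtain ⟨t, ht, htr⟩ : ∃ t ∈ R, r ∣ orderOf t := by
    by_contra hc
    push Not at hc
    obtain ⟨K, hK⟩ := hrd
    have hpos : 0 < orderOf M := Nat.pos_of_ne_zero fun h => hpd (h ▸ dvd_zero p)
    have hK0 : 0 < orderOf M / r ^ (orderOf M).factorization r := Nat.ordCompl_pos r hpos.ne'
    obtain ⟨c, hM⟩ := hRM _ hK0 fun t ht => by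
      rw [← orderOf_dvd_iff_pow_eq_one]
      have h1 : orderOf t ∣ r ^ (orderOf M).factorization r * (orderOf M / r ^ (orderOf M).factorization r) := by
        rw [Nat.ordProj_mul_ordCompl_eq_self]
        exact orderOf_dvd_of_pow_eq_one (hRt t ht).1
      exact ((hr.coprime_iff_not_dvd.2 (hc t ht)).symm.pow_right _).dvd_of_dvd_mul_left h1
    exact Nat.not_dvd_ordCompl hr hpos.ne' (order_dvd_of_pow hr hp hrp ⟨K, hK⟩ hM)
  set N := orderOf t with hN
  have hNM : N ∣ orderOf M := orderOf_dvd_of_pow_eq_one (hRt t ht).1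
  have hN2 : 2 < N := lt_of_lt_of_le (lt_of_le_of_ne hr.two_le (Ne.symm hr2))
    (Nat.le_of_dvd (Nat.pos_of_ne_zero fun h => hpd (by rw [h] at hNM; rw [zero_dvd_iff.1 hNM]; exact dvd_zero p)) htr)
  have hco : Nat.Coprime (Fintype.card F) N := by
    obtain ⟨a, -, ha⟩ := CfsgLib.PSpGraph.card_eq_pow F p
    rw [ha]
    exact (hp.coprime_iff_not_dvd.2 fun h => hpd (h.trans hNM)).pow_left a
  obtain ⟨a, ha, hle⟩ := orbit_torus Fintype.card_pos hN2 hco R
    (fun t ht => ⟨(hRt t ht).2.1, (hRt t ht).2.2.1⟩) ht rfl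
  have h3 := Finset.card_filter_le R fun u => orderOf u = N
  obtain rfl : a = n := by
    rcases Nat.lt_or_ge a n with h | h
    · exact absurd (T_of_dvd htr ha) (hno a h)
    · omega
  obtain ⟨hnd, hf⟩ := hRS (by omega)
  refine ⟨N, htr, hNM, ha, hnd, fun f h h' => hf f (fun u hu => h u ?_) h'⟩
  exact Finset.filter_eq_self.1 (Finset.eq_of_subset_of_card_le (Finset.filter_subset (fun u => orderOf u = N) R)
    (by omega)) u hu

end CfsgLib.PrimeGraphBC
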