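import Cfsg.Agent.Lib.PrimeGraphBC.Torus
import Cfsg.Agent.Lib.FiniteForms.Standard
import Cfsg.Agent.Lib.OmegaMem
import Cfsg.Agent.Lib.SemisimplePrimeClasses.OrthIndex

/-! An element of order `2r` of `Ω_{2n+1}` whose `r`-part has a one-dimensional fixed space. -/

set_option autoImplicit false
set_option linter.unusedSectionVars false
set_option maxHeartbeats 1000000
set_option synthInstance.maxHeartbeats 200000

namespace CfsgLib.PrimeGraphBC

open Matrix Polynomial CfsgLib.SemisimplePrimeClasses CfsgLib.StdQuadForms QuadraticMap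

variable {F : Type*} [Field F] [Fintype F]

theorem neg_one_pow_square_iff (hodd : Odd (Fintype.card F)) (n : ℕ) :
    IsSquare ((-1 : F) ^ n) ↔ 4 ∣ Fintype.card F ^ n - 1 := by
  have h1 := Nat.one_le_pow n (Fintype.card F) Fintype.card_pos
  have h4 : 4 ∣ Fintype.card F ^ n - 1 ↔ Fintype.card F ^ n % 4 = 1 := by omega
  rw [h4, Nat.pow_mod]
  have hm : Fintype.card F % 4 = 1 ∨ Fintype.card F % 4 = 3 := by
    obtain ⟨t, ht⟩ := hodd
    omega
  rcases Nat.even_or_odd n with ⟨k, rfl⟩ | ⟨k, rfl⟩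
  · rw [Even.neg_one_pow (⟨k, rfl⟩ : Even (k + k)), ← two_mul, pow_mul]
    rcases hm with h | h <;> rw [h] <;> simp [Nat.pow_mod]
  · rw [Odd.neg_one_pow ⟨k, rfl⟩, FiniteField.isSquare_neg_one_iff, pow_succ, pow_mul]
    rcases hm with h | h <;> rw [h] <;> simp [Nat.mul_mod, Nat.pow_mod]

theorem finrank_fix_le_one {ι : Type} [Fintype ι] [DecidableEq ι] {A : Matrix ι ι F}
    (hnd : (matRoots A).Nodup) : Module.finrank F (Module.End.eigenspace (Matrix.toLin' A) 1) ≤ 1 := by
  classical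
  refine (LinearMap.finrank_eigenspace_le (Matrix.toLin' A) 1).trans ?_
  rw [Matrix.charpoly_toLin', Polynomial.eq_rootMultiplicity_map
    (algebraMap F (AlgebraicClosure F)).injective, map_one, ← Polynomial.count_roots, ← Matrix.charpoly_map]
  exact Multiset.nodup_iff_count_le_one.1 hnd 1

/-- The diagonalised complement of the fixed vector. -/
theorem exists_square_disc (h2 : (2 : F) ≠ 0) {n r : ℕ} (hn : 0 < n) (hr : r.Prime) (hr2 : r ≠ 2)
    {ι : Type} [Fintype ι] [DecidableEq ι] {Q : QuadraticForm F (ι → F)} (hQ : (polarBilin Q).Nondegenerate)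
    (hι : Fintype.card ι = n + n + 1)
    (w : Cfsg.isometryGroup F ⇑Q) (hw : w ∈ Cfsg.Omega F ⇑Q)
    (ho : orderOf w = 2 * r) (hnd : (matRoots w.1.1).Nodup)
    (hpoly : aeval w.1.1 ((X ^ r + 1) * (X - 1) : F[X]) = 0) {κ : Type} [Fintype κ] [DecidableEq κ]
    (hκ : Fintype.card κ = n + n) :
    ∃ D : QuadraticForm F (κ → F), (CfsgLib.FiniteForms.polarMat ⇑D).det ≠ 0 ∧
      IsSquare (CfsgLib.FiniteForms.polarMat ⇑D).det ∧ r ∣ Nat.card (Cfsg.isometryGroup F ⇑D) := by
  classical
  set A := w.1.1 with hA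
  set U := A ^ r with hU
  set Y := A ^ 2 with hY
  have hAo : orderOf A = 2 * r := by rw [hA, orderOf_iso, ho]
  have hUU : U * U = 1 := by rw [hU, ← pow_add, ← two_mul, ← hAo, pow_orderOf_eq_one]
  have hYr : Y ^ r = 1 := by rw [hY, ← pow_mul, ← hAo, pow_orderOf_eq_one]
  have hY1 : Y ≠ 1 := fun h => by
    have := Nat.le_of_dvd two_pos (hAo ▸ orderOf_dvd_of_pow_eq_one h)
    have := hr.two_le
    omega
  have hz : (U + 1) * (A - 1) = 0 := by simpa [map_mul, hU] using hpoly
  have hz' : (A - 1) * (U + 1) = 0 := by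
    rw [mul_comm] at hpoly
    simpa [map_mul, hU] using hpoly
  have hAQ : ∀ x, Q (A *ᵥ x) = Q x := fun x => w.2 x x
  have hUQ : ∀ x, Q (U *ᵥ x) = Q x := fun x => by
    have h := (w ^ r).2 x x
    rw [SubmonoidClass.coe_pow] at h
    exact h
  set W : Submodule F (ι → F) := LinearMap.ker (Matrix.toLin' (U + 1)) with hWdef
  have hW : ∀ x, x ∈ W ↔ U *ᵥ x = -x := fun x => by
    rw [hWdef, LinearMap.mem_ker, Matrix.toLin'_apply, Matrix.add_mulVec, Matrix.one_mulVec,
      add_eq_zero_iff_eq_neg]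
  set E := Module.End.eigenspace (Matrix.toLin' A) (1 : F) with hEdef
  have hE : ∀ x, x ∈ E ↔ A *ᵥ x = x := fun x => by
    rw [hEdef, Module.End.mem_eigenspace_iff, Matrix.toLin'_apply, one_smul]
  have hEU : ∀ x ∈ E, U *ᵥ x = x := fun x hx => by
    have : ∀ k : ℕ, A ^ k *ᵥ x = x := fun k => by
      induction k with
      | zero => simp
      | succ k ih => rw [pow_succ, ← mulVec_mulVec, (hE x).1 hx, ih]
    exact this r
  have hcompl : IsCompl E W := by
    refine IsCompl.of_eq (eq_bot_iff.2 fun x hx => ?_) (eq_top_iff.2 fun x _ => ?_)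
    · obtain ⟨h1, h3⟩ := Submodule.mem_inf.1 hx
      have := ((hW x).1 h3).symm.trans (hEU x h1)
      funext i
      have := congrFun this i
      simp only [Pi.neg_apply] at this
      exact (mul_eq_zero.1 (show (2 : F) * x i = 0 by linear_combination -this)).resolve_left h2
    · have hx : x = (2 : F)⁻¹ • (x + U *ᵥ x) + (2 : F)⁻¹ • (x - U *ᵥ x) := by
        rw [← smul_add, show x + U *ᵥ x + (x - U *ᵥ x) = (2 : F) • x by rw [two_smul]; abel, smul_smul,
          inv_mul_cancel₀ h2, one_smul]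
      rw [hx]
      refine Submodule.add_mem_sup ?_ ?_
      · refine Submodule.smul_mem _ _ ((hE _).2 ?_)
        have := congrArg (· *ᵥ x) hz'
        simp only [← mulVec_mulVec, Matrix.add_mulVec, Matrix.one_mulVec, Matrix.sub_mulVec,
          Matrix.zero_mulVec, sub_eq_zero] at this
        rw [add_comm x (U *ᵥ x)]
        exact this
      · refine Submodule.smul_mem _ _ ((hW _).2 ?_)
        rw [Matrix.mulVec_sub, mulVec_mulVec, hUU, Matrix.one_mulVec, neg_sub]
  have hd1 : A.det = 1 := by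
    have hdet : Cfsg.Omega F ⇑Q ≤ (Matrix.GeneralLinearGroup.det.comp (Cfsg.isometryGroup F ⇑Q).subtype).ker :=
      Abelianization.commutator_subset_ker _
    have h1 := congrArg Units.val (MonoidHom.mem_ker.1 (hdet hw))
    simpa [Matrix.GeneralLinearGroup.val_det_apply, hA] using h1
  have hEne : E ≠ ⊥ := by
    intro h
    have h1 := one_mem_of_det_one h2 hι hQ w hd1
    rw [matRoots, mem_roots (Matrix.charpoly_monic _).ne_zero, IsRoot, Matrix.charpoly_map,
      ← map_one (algebraMap F (AlgebraicClosure F)), eval_map, eval₂_hom, _root_.map_eq_zero] at h1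
    have h3 : (1 : F) ∈ spectrum F A := Matrix.mem_spectrum_iff_isRoot_charpoly.2 h1
    rw [← Matrix.spectrum_toLin', ← Module.End.hasEigenvalue_iff_mem_spectrum] at h3
    exact h3 h
  have hE1 : Module.finrank F E = 1 := le_antisymm (finrank_fix_le_one hnd)
    (Nat.pos_of_ne_zero fun h => hEne (Submodule.finrank_eq_zero.1 h))
  have hWn : Module.finrank F W = n + n := by
    have := Submodule.finrank_add_eq_of_isCompl hcompl
    rw [hE1, Module.finrank_pi, hι] at this
    omega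
  haveI : Invertible (2 : F) := invertibleOfNonzero h2
  let B : LinearMap.BilinForm F W := (polarBilin Q).compl₁₂ W.subtype W.subtype
  have hB : ∀ x y, B x y = polar Q (x : ι → F) (y : ι → F) := fun x y => rfl
  obtain ⟨c0, hc0⟩ := LinearMap.BilinForm.exists_orthogonal_basis (B := B)
    ⟨fun x y => by
      show B x y = B y x
      rw [hB, hB]; exact polar_comm _ _ _⟩
  let c : Module.Basis κ F W := c0.reindex (Fintype.equivOfCardEq (by rw [hκ, Fintype.card_fin, hWn]))
  have hc : ∀ i j, i ≠ j → polar Q (c i : ι → F) (c j : ι → F) = 0 := fun i j hij => by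
    rw [← hB, Module.Basis.reindex_apply, Module.Basis.reindex_apply]
    exact LinearMap.isOrthoᵢ_def.1 hc0 _ _ fun h => hij ((Equiv.injective _) h)
  have horth : ∀ x ∈ E, ∀ y ∈ W, polar Q x y = 0 := fun x hx y hy => by
    have h1 : polar Q (U *ᵥ x) (U *ᵥ y) = polar Q x y := by
      simp only [polar, ← Matrix.mulVec_add, hUQ]
    rw [hEU x hx, (hW y).1 hy, polar_neg_right] at h1
    exact (mul_eq_zero.1 (show (2 : F) * polar Q x y = 0 by linear_combination -h1)).resolve_left h2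
  have hext : ∀ f : (ι → F) →ₗ[F] F, (∀ x ∈ E, f x = 0) → (∀ i, f (c i) = 0) → f = 0 := fun f hf hg => by
    refine LinearMap.ext fun x => ?_
    obtain ⟨a, ha, b, hb, rfl⟩ := Submodule.mem_sup.1 (hcompl.sup_eq_top.ge (Submodule.mem_top (x := x)))
    rw [map_add, hf a ha, zero_add, show f b = (f ∘ₗ W.subtype) ⟨b, hb⟩ from rfl,
      show f ∘ₗ W.subtype = 0 from c.ext fun i => hg i]
    rfl
  have hQc : ∀ i, Q (c i : ι → F) ≠ 0 := fun i h0 => by
    refine c.ne_zero i (Subtype.ext (hQ.1 _ fun y => ?_))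
    have := hext (polarBilin Q (c i : ι → F)) (fun x hx => by
      show polar Q (c i : ι → F) x = 0
      rw [polar_comm]; exact horth x hx _ (c i).2) fun j => by
      show polar Q (c i : ι → F) (c j : ι → F) = 0
      rcases eq_or_ne i j with rfl | hij
      · rw [polar_self, h0, smul_zero]
      · exact hc i j hij
    exact LinearMap.congr_fun this y
  set vs : List (ι → F) := Finset.univ.toList.map fun i => (c i : ι → F) with hvsdef
  have hvs : ∀ v ∈ vs, Q v ≠ 0 := fun v hv => by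
    obtain ⟨i, -, rfl⟩ := List.mem_map.1 hv
    exact hQc i
  have hpair : vs.Pairwise fun a b => polar Q a b = 0 := by
    rw [hvsdef, List.pairwise_map]
    exact List.Pairwise.imp (fun {a b} hab => hc a b hab) (Finset.nodup_toList _)
  have hprod : U = (vs.map fun v => Cfsg.reflectionMatrix (⇑Q) v).prod := by
    refine Matrix.toLin'.injective (LinearMap.ext fun x => ?_)
    obtain ⟨a, ha, b, hb, rfl⟩ := Submodule.mem_sup.1 (hcompl.sup_eq_top.ge (Submodule.mem_top (x := x)))
    rw [map_add, map_add]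
    congr 1
    · rw [Matrix.toLin'_apply, Matrix.toLin'_apply, hEU a ha, CfsgLib.OmegaMem.prod_mulVec_fix Q vs a fun v hv => ?_]
      obtain ⟨i, -, rfl⟩ := List.mem_map.1 hv
      rw [polar_comm]; exact horth a ha _ (c i).2
    · rw [show b = W.subtype ⟨b, hb⟩ from rfl, ← LinearMap.comp_apply, ← LinearMap.comp_apply]
      refine LinearMap.congr_fun (c.ext fun i => ?_) _
      show Matrix.toLin' U (c i : ι → F) = Matrix.toLin' _ (c i : ι → F)
      have hmem : (c i : ι → F) ∈ vs := List.mem_map.2 ⟨i, Finset.mem_toList.2 (Finset.mem_univ _), rfl⟩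
      rw [Matrix.toLin'_apply, Matrix.toLin'_apply, (hW _).1 (c i).2,
        CfsgLib.OmegaMem.prod_mulVec_neg Q vs _ hmem hpair (hQc i)]
  have hUmem : w ^ r ∈ Cfsg.Omega F ⇑Q := Subgroup.pow_mem _ hw r
  obtain ⟨-, s, hs⟩ := (CfsgLib.OmegaMem.omega_iff_prod Q h2 (by omega) hQ (w ^ r) vs hvs
    (by rw [SubmonoidClass.coe_pow, Units.val_pow_eq_pow_val, ← hA, ← hU, hprod])).1 hUmem
  have hlist : ∏ i, Q (c i : ι → F) = s * s := by
    rw [← hs, hvsdef, List.map_map, ← Finset.prod_map_toList]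
    rfl
  let L : (κ → F) →ₗ[F] (ι → F) := W.subtype ∘ₗ c.equivFun.symm.toLinearMap
  let D : QuadraticForm F (κ → F) := Q.comp L
  have hLs : ∀ i, L (Pi.single i 1) = (c i : ι → F) := fun i => by
    show ((c.equivFun.symm (Pi.single i 1) : W) : ι → F) = _
    rw [Module.Basis.equivFun_symm_apply]
    simp [Pi.single_apply]
  have hdet : (CfsgLib.FiniteForms.polarMat ⇑D).det = (2 : F) ^ (n + n) * (s * s) := by
    rw [show CfsgLib.FiniteForms.polarMat ⇑D = Matrix.diagonal fun i => 2 * Q (c i : ι → F) from ?_,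
      Matrix.det_diagonal, Finset.prod_mul_distrib, Finset.prod_const, Finset.card_univ, hκ, hlist]
    ext i j
    show polar (Q.comp L) (Pi.single i 1) (Pi.single j 1) = _
    simp only [polar, QuadraticMap.comp_apply, map_add, hLs]
    rcases eq_or_ne i j with rfl | hij
    · rw [Matrix.diagonal_apply_eq]
      exact (polar_self Q _).trans (by rw [two_smul, two_mul])
    · rw [Matrix.diagonal_apply_ne _ hij]
      exact hc i j hij
  refine ⟨D, ?_, ⟨(2 : F) ^ n * s, by rw [hdet, pow_add]; ring⟩, ?_⟩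
  · rw [hdet]
    refine mul_ne_zero (pow_ne_zero _ h2) ?_
    rw [← hlist]
    exact Finset.prod_ne_zero_iff.2 fun i _ => hQc i
  have hYW : ∀ x ∈ W, Matrix.toLin' Y x ∈ W := fun x hx => by
    rw [hW, Matrix.toLin'_apply, mulVec_mulVec,
      show U * Y = Y * U by rw [hU, hY, ← pow_add, ← pow_add, add_comm], ← mulVec_mulVec, (hW x).1 hx,
      Matrix.mulVec_neg]
  set f : Module.End F W := (Matrix.toLin' Y).restrict hYW
  set M := LinearMap.toMatrix c c f
  have hMr : M ^ r = 1 := by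
    rw [LinearMap.toMatrix_pow, show f ^ r = 1 from ?_, LinearMap.toMatrix_one]
    refine LinearMap.ext fun x => Subtype.ext ?_
    rw [Module.End.pow_restrict r hYW, LinearMap.restrict_apply]
    show ((Matrix.toLin' Y) ^ r) (x : ι → F) = _
    rw [← Matrix.toLin'_pow, hYr, Matrix.toLin'_one]
    rfl
  have hM1 : M ≠ 1 := fun h => by
    rw [← LinearMap.toMatrix_one c, (LinearMap.toMatrix c c).injective.eq_iff] at h
    refine hY1 (Matrix.toLin'.injective (LinearMap.ext fun x => ?_))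
    obtain ⟨a, ha, b, hb, rfl⟩ := Submodule.mem_sup.1 (hcompl.sup_eq_top.ge (Submodule.mem_top (x := x)))
    rw [map_add, map_add]
    congr 1
    · rw [Matrix.toLin'_apply, Matrix.toLin'_apply, hY, pow_two, ← mulVec_mulVec, (hE a).1 ha, (hE a).1 ha,
        Matrix.one_mulVec]
    · have := congrArg Subtype.val (LinearMap.congr_fun h ⟨b, hb⟩)
      rw [Matrix.toLin'_apply 1, Matrix.one_mulVec]
      exact this
  have hMD : ∀ v, D (M *ᵥ v) = D v := fun v => by
    have h1 : c.equivFun.symm (M *ᵥ v) = f (c.equivFun.symm v) := by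
      apply c.equivFun.injective
      rw [c.equivFun.apply_symm_apply]
      conv_lhs => rw [← c.equivFun.apply_symm_apply v]
      exact LinearMap.toMatrix_mulVec_repr c c f _
    show Q ((c.equivFun.symm (M *ᵥ v) : W) : ι → F) = _
    rw [h1]
    show Q (Matrix.toLin' Y (L v)) = Q (L v)
    rw [Matrix.toLin'_apply, hY, pow_two, ← mulVec_mulVec, hAQ, hAQ]
  let g : GL κ F := Units.ofPowEqOne M r hMr hr.ne_zero
  have hg : orderOf g = r := by
    haveI := Fact.mk hr
    refine orderOf_eq_prime (Units.ext ?_) fun h => hM1 ?_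
    · rw [Units.val_pow_eq_pow_val]; exact hMr
    · exact congrArg Units.val h
  have hgmem : g ∈ Cfsg.isometryGroup F ⇑D := fun u _ => hMD u
  rw [← hg, ← Subgroup.orderOf_mk g hgmem]
  exact orderOf_dvd_natCard _

theorem card_of_square_disc (h2 : (2 : F) ≠ 0) {κ : Type} [Fintype κ] [DecidableEq κ] (D Q' : QuadraticForm F (κ → F))
    (hD : (CfsgLib.FiniteForms.polarMat ⇑D).det ≠ 0) (hDs : IsSquare (CfsgLib.FiniteForms.polarMat ⇑D).det)
    (hQ' : (CfsgLib.FiniteForms.polarMat ⇑Q').det ≠ 0) (hs : IsSquare (CfsgLib.FiniteForms.polarMat ⇑Q').det) :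
    Nat.card (Cfsg.isometryGroup F ⇑D) ∣ Nat.card (Cfsg.isometryGroup F ⇑Q') := by
  obtain ⟨L, hL⟩ := CfsgLib.FiniteForms.isometry_of_congr h2 D Q'
    ((CfsgLib.FiniteForms.congr_iff h2 (CfsgLib.FiniteForms.polarMat_isSymm _)
      (CfsgLib.FiniteForms.polarMat_isSymm _) hQ' hD).2 (hs.mul hDs))
  obtain ⟨φ, hφ⟩ := exists_transfer (⟨L, hL⟩ : FormEquiv D Q')
  exact Subgroup.card_dvd_of_injective φ hφ

theorem orth_two (hodd : Odd (Fintype.card F)) (h2 : (2 : F) ≠ 0) {n r : ℕ} (hn : 0 < n) (hr : r.Prime)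
    (hr2 : r ≠ 2) (hrq : ¬ r ∣ Fintype.card F)
    (w : Cfsg.isometryGroup F ⇑(Qo (F := F) n)) (hw : w ∈ Cfsg.Omega F ⇑(Qo (F := F) n))
    (ho : orderOf w = 2 * r) (hnd : (matRoots w.1.1).Nodup)
    (hpoly : aeval w.1.1 ((X ^ r + 1) * (X - 1) : F[X]) = 0)
    (hno : ∀ a, a < n → ¬ T (Fintype.card F) r a) (hT : T (Fintype.card F) r n) :
    T (Fintype.card F) (4 * r) n := by
  classical
  have hco : Nat.Coprime 4 r := by
    rw [show 4 = 2 ^ 2 from rfl]
    exact ((Nat.coprime_primes Nat.prime_two hr).2 (Ne.symm hr2)).pow_left 2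
  have h1 := Nat.one_le_pow n (Fintype.card F) Fintype.card_pos
  have ho' : Odd (Fintype.card F ^ n) := hodd.pow
  have hr3 : 3 ≤ r := lt_of_le_of_ne hr.two_le (Ne.symm hr2)
  have hboth : ¬ (r ∣ Fintype.card F ^ n + 1 ∧ r ∣ Fintype.card F ^ n - 1) := fun ⟨ha, hb⟩ => by
    have := Nat.le_of_dvd two_pos ((Nat.dvd_add_right hb).1
      (show r ∣ (Fintype.card F ^ n - 1) + 2 by rwa [show Fintype.card F ^ n - 1 + 2 = Fintype.card F ^ n + 1 by omega]))
    omega
  have hlow : ¬ r ∣ ∏ i ∈ Finset.range (n - 1), (Fintype.card F ^ (2 * (i + 1)) - 1) := fun h => by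
    obtain ⟨i, hi, hd⟩ := (hr.prime.dvd_finsetProd_iff _).1 h
    have hi' := Finset.mem_range.1 hi
    rw [sq_pow_sub_one, hr.dvd_mul] at hd
    exact hno (i + 1) (by omega) ⟨by omega, hd⟩
  have hdvd : ∀ m : ℕ, r ∣ 2 * Fintype.card F ^ (n * (n - 1)) * m *
      ∏ i ∈ Finset.range (n - 1), (Fintype.card F ^ (2 * (i + 1)) - 1) → r ∣ m := fun m h => by
    rcases hr.dvd_mul.1 h with h | h
    · rcases hr.dvd_mul.1 h with h | h
      · rcases hr.dvd_mul.1 h with h | h
        · exact absurd ((Nat.prime_dvd_prime_iff_eq hr Nat.prime_two).1 h) hr2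
        · exact absurd (hr.dvd_of_dvd_pow h) hrq
      · exact h
    · exact absurd h hlow
  obtain ⟨-, hT⟩ := hT
  refine ⟨hn, ?_⟩
  rcases hT with hT | hT
  · refine Or.inl (hco.mul_dvd_of_dvd_of_dvd ?_ hT)
    by_contra h4
    have hsq : IsSquare ((-1 : F) ^ n) := (neg_one_pow_square_iff hodd n).2 (by
      obtain ⟨t, ht⟩ := ho'
      omega)
    obtain ⟨D, hD, hDs, hrD⟩ := exists_square_disc h2 hn hr hr2 (Qo_nondeg h2 n) (by simp; ring) w hw ho hnd hpoly
      (κ := Fin n ⊕ Fin n) (by simp)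
    have hM : CfsgLib.FiniteForms.polarMat ⇑(CfsgLib.Lagrangian.Qp n F) = CfsgLib.FiniteForms.hypMat F n := by
      refine Matrix.ext fun i j => ?_
      show polar _ _ _ = _
      rw [show ⇑(CfsgLib.Lagrangian.Qp n F) = Cfsg.quadFormPlus n F from
        funext fun v => CfsgLib.Lagrangian.Qp_apply v, CfsgLib.FiniteForms.polar_plus]
      simp
    have h := hrD.trans (card_of_square_disc h2 D (CfsgLib.Lagrangian.Qp n F) hD hDs
      (by rw [hM, CfsgLib.FiniteForms.det_hypMat]; exact pow_ne_zero _ (neg_ne_zero.2 one_ne_zero))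
      (by rw [hM, CfsgLib.FiniteForms.det_hypMat]; exact hsq))
    rw [card_iso_Qp n hn] at h
    exact hboth ⟨hT, hdvd _ h⟩
  · refine Or.inr (hco.mul_dvd_of_dvd_of_dvd ?_ hT)
    by_contra h4
    have hsq : ¬ IsSquare ((-1 : F) ^ n) := fun h => h4 ((neg_one_pow_square_iff hodd n).1 h)
    obtain ⟨a, b, hab⟩ := exists_binary F
    obtain ⟨D, hD, hDs, hrD⟩ := exists_square_disc h2 hn hr hr2 (Qo_nondeg h2 n) (by simp; ring) w hw ho hnd hpoly
      (κ := (Fin (n - 1) ⊕ Fin (n - 1)) ⊕ Fin 2) (by simp; omega)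
    have hM : CfsgLib.FiniteForms.polarMat ⇑(Qm (n - 1) a b) = CfsgLib.FiniteForms.ellMat (n - 1) a b := by
      refine Matrix.ext fun i j => ?_
      show polar _ _ _ = _
      rw [show ⇑(Qm (n - 1) a b) = Cfsg.quadFormMinus (n - 1) F a b from funext fun v => Qm_apply _ a b v,
        CfsgLib.FiniteForms.polar_minus]
      simp
    have hne := CfsgLib.FiniteForms.not_isSquare_of_anisotropic h2 hab
    have hne0 : a * a - 4 * b ≠ 0 := fun h => hne (h ▸ IsSquare.zero)
    have hdetM : (CfsgLib.FiniteForms.ellMat (n - 1) a b).det = (-1) ^ n * (a * a - 4 * b) := by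
      rw [CfsgLib.FiniteForms.det_ellMat]
      obtain ⟨m, rfl⟩ : ∃ m, n = m + 1 := ⟨n - 1, by omega⟩
      rw [Nat.add_sub_cancel, pow_succ]
      ring
    have h := hrD.trans (card_of_square_disc h2 D (Qm (n - 1) a b) hD hDs
      (by rw [hM, hdetM]; exact mul_ne_zero (pow_ne_zero _ (neg_ne_zero.2 one_ne_zero)) hne0)
      (by rw [hM, hdetM]; exact (CfsgLib.OmegaMem.isSquare_mul_iff h2
            (pow_ne_zero _ (neg_ne_zero.2 one_ne_zero)) hne0).2 (iff_of_false hsq hne)))
    rw [card_iso_Qm n hn hab] at h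
    exact hboth ⟨hdvd _ h, hT⟩

end CfsgLib.PrimeGraphBC
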