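import Cfsg.Agent.Lib.SemisimplePrimeClasses.OrthModels
import Cfsg.Agent.Lib.FiniteForms.Quad
import Cfsg.Agent.Lib.FiniteForms.Congr
import Cfsg.Agent.Lib.PrimeGraphBC.Eig

/-! Tori and blocks in odd-dimensional orthogonal groups. -/

set_option autoImplicit false
set_option linter.unusedSectionVars false
set_option maxHeartbeats 1000000
set_option synthInstance.maxHeartbeats 200000

namespace CfsgLib.PrimeGraphBC

open Matrix CfsgLib.SemisimplePrimeClasses CfsgLib.StdQuadForms CfsgLib.OmegaSum QuadraticMap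

variable {F : Type*} [Field F] [Fintype F]
variable {ι κ : Type} [Fintype ι] [DecidableEq ι] [Fintype κ] [DecidableEq κ]

theorem exists_transfer {Q : QuadraticForm F (ι → F)} {Q' : QuadraticForm F (κ → F)} (he : FormEquiv Q Q') :
    ∃ φ : Cfsg.isometryGroup F ⇑Q →* Cfsg.isometryGroup F ⇑Q', Function.Injective φ := by
  classical
  obtain ⟨e, he⟩ := he
  set P : Matrix κ ι F := LinearMap.toMatrix' (e : (ι → F) →ₗ[F] (κ → F)) with hP
  set S : Matrix ι κ F := LinearMap.toMatrix' (e.symm : (κ → F) →ₗ[F] (ι → F)) with hS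
  have hSP : S * P = 1 := by
    rw [hS, hP, ← LinearMap.toMatrix'_comp]
    simp
  have hPS : P * S = 1 := by
    rw [hS, hP, ← LinearMap.toMatrix'_comp]
    simp
  let c : GL ι F →* GL κ F := Units.map
    { toFun := fun M => P * M * S
      map_one' := by rw [Matrix.mul_one, hPS]
      map_mul' := fun M N => by
        rw [show P * M * S * (P * N * S) = P * M * (S * P) * N * S by simp only [Matrix.mul_assoc], hSP,
          Matrix.mul_one, Matrix.mul_assoc P M N] }
  have hc : ∀ g : Cfsg.isometryGroup F ⇑Q, c g.1 ∈ Cfsg.isometryGroup F ⇑Q' := by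
    intro g u _
    show Q' ((P * g.1.1 * S) *ᵥ u) = Q' u
    rw [← Matrix.mulVec_mulVec, ← Matrix.mulVec_mulVec, hS, hP, LinearMap.toMatrix'_mulVec,
      LinearMap.toMatrix'_mulVec]
    show Q' (e (g.1.1 *ᵥ e.symm u)) = Q' u
    rw [he]
    refine (g.2 (e.symm u) (e.symm u)).trans ?_
    show Q (e.symm u) = Q' u
    rw [← he, e.apply_symm_apply]
  refine ⟨MonoidHom.codRestrict (c.comp (Cfsg.isometryGroup F ⇑Q).subtype) _ hc, fun g g' h => ?_⟩
  have h1 : P * g.1.1 * S = P * g'.1.1 * S := congrArg (fun x : Cfsg.isometryGroup F ⇑Q' => x.1.1) h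
  have h2 := congrArg (fun M => S * M * P) h1
  simp only [← Matrix.mul_assoc] at h2
  rw [hSP, Matrix.one_mul, Matrix.mul_assoc _ S, hSP, Matrix.mul_one, Matrix.one_mul,
    Matrix.mul_assoc _ S, hSP, Matrix.mul_one] at h2
  exact Subtype.ext (Units.ext h2)

theorem isometryGroup_smul (Q : QuadraticForm F (ι → F)) {c : F} (hc : c ≠ 0) :
    Cfsg.isometryGroup F ⇑(c • Q) = Cfsg.isometryGroup F ⇑Q := by
  ext g
  refine ⟨fun h u v => mul_left_cancel₀ hc ?_, fun h u v => congrArg (c * ·) (h u v)⟩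
  exact h u v

/-- The trace form of a norm-one element. -/
theorem exists_iso_of_algebra (h2 : (2 : F) ≠ 0) {L : Type*} [CommRing L] [Algebra F L]
    (b : Module.Basis ι F L) (σ : L →ₐ[F] L) (hσσ : ∀ x, σ (σ x) = x) (ℓ : L →ₗ[F] F)
    (hℓ : ∀ x, ℓ (σ x) = ℓ x) (hnd : ∀ x, (∀ y, ℓ (x * y) = 0) → x = 0) (e : Lˣ)
    (he : (e : L) * σ e = 1) :
    ∃ Q : QuadraticForm F (ι → F), (polarBilin Q).Nondegenerate ∧
      ∃ g : Cfsg.isometryGroup F ⇑Q, orderOf g = orderOf e := by
  classical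
  let B : LinearMap.BilinMap F (ι → F) F :=
    LinearMap.mk₂ F (fun x y => ℓ (b.equivFun.symm x * σ (b.equivFun.symm y)))
      (fun x x' y => by rw [map_add, add_mul, map_add])
      (fun c x y => by rw [map_smul, smul_mul_assoc, map_smul])
      (fun x y y' => by rw [map_add, map_add, mul_add, map_add])
      (fun c x y => by rw [map_smul, map_smul, mul_smul_comm, map_smul])
  let Q : QuadraticForm F (ι → F) := LinearMap.BilinMap.toQuadraticMap B
  have hQ : ∀ v, Q v = ℓ (b.equivFun.symm v * σ (b.equivFun.symm v)) := fun v => rfl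
  have hpol : ∀ u v, polar Q u v = 2 * ℓ (b.equivFun.symm u * σ (b.equivFun.symm v)) := fun u v => by
    rw [LinearMap.BilinMap.polar_toQuadraticMap]
    show ℓ _ + ℓ _ = _
    rw [two_mul]
    congr 1
    rw [← hℓ (b.equivFun.symm u * σ (b.equivFun.symm v)), map_mul σ, hσσ, mul_comm]
  have hl : ∀ u, (∀ v, polar Q u v = 0) → u = 0 := fun u h => by
    refine b.equivFun.symm.injective ?_
    rw [map_zero]
    refine hnd _ fun y => ?_
    have := h (b.equivFun (σ y))
    rw [hpol, LinearEquiv.symm_apply_apply, hσσ] at this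
    exact (mul_eq_zero.1 this).resolve_left h2
  refine ⟨Q, ⟨fun u h => hl u h, fun v h => hl v fun u => (polar_comm _ v u).trans (h u)⟩, ?_⟩
  let f : Lˣ →* GL ι F := Units.map (Algebra.leftMulMatrix b).toRingHom.toMonoidHom
  have hmem : f e ∈ Cfsg.isometryGroup F ⇑Q := by
    intro v _
    show Q (Algebra.leftMulMatrix b (e : L) *ᵥ v) = Q v
    have h1 : Algebra.leftMulMatrix b (e : L) *ᵥ v = b.equivFun ((e : L) * b.equivFun.symm v) := by
      conv_lhs => rw [← b.equivFun.apply_symm_apply v]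
      exact Algebra.leftMulMatrix_mulVec_repr b _ _
    rw [hQ, hQ, h1, LinearEquiv.symm_apply_apply, map_mul σ,
      show (e : L) * b.equivFun.symm v * (σ e * σ (b.equivFun.symm v)) =
        ((e : L) * σ e) * (b.equivFun.symm v * σ (b.equivFun.symm v)) by ring, he, one_mul]
  refine ⟨⟨f e, hmem⟩, ?_⟩
  rw [Subgroup.orderOf_mk]
  exact orderOf_injective f (Units.map_injective (Algebra.leftMulMatrix_injective b)) e

theorem exists_field_ext (p : ℕ) [Fact p.Prime] [CharP F p] {d : ℕ} (hd : 0 < d) :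
    ∃ (L : Type) (_ : Field L) (_ : Fintype L) (_ : Algebra F L),
      Module.finrank F L = d ∧ Fintype.card L = Fintype.card F ^ d := by
  haveI : NeZero d := ⟨hd.ne'⟩
  let L := FiniteField.Extension F p d
  letI : Fintype L := Fintype.ofFinite L
  have h := FiniteField.finrank_extension F p d
  exact ⟨L, inferInstance, inferInstance, inferInstance, h,
    (Module.card_eq_pow_finrank (K := F) (V := L)).trans (by rw [h])⟩

theorem exists_unit_order (L : Type*) [Field L] [Fintype L] {N : ℕ} (hN : N ∣ Fintype.card L - 1) :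
    ∃ e : Lˣ, orderOf e = N := by
  classical
  obtain ⟨g, hg⟩ := IsCyclic.exists_generator (α := Lˣ)
  have ho : orderOf g = Fintype.card L - 1 := by
    rw [orderOf_eq_card_of_forall_mem_zpowers hg, Nat.card_units, Nat.card_eq_fintype_card]
  refine ⟨g ^ (orderOf g / N), orderOf_pow_orderOf_div (orderOf_pos g).ne' (ho ▸ hN)⟩

/-- The tori of order `q ^ a ± 1`. -/
theorem exists_block (h2 : (2 : F) ≠ 0) (p : ℕ) [Fact p.Prime] [CharP F p] {N a : ℕ}
    (h : T (Fintype.card F) N a) :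
    ∃ Q : QuadraticForm F (Fin a ⊕ Fin a → F), (polarBilin Q).Nondegenerate ∧
      ∃ g : Cfsg.isometryGroup F ⇑Q, orderOf g = N := by
  classical
  obtain ⟨ha, h⟩ := h
  set q := Fintype.card F with hq
  rcases h with h | h
  · obtain ⟨L, _, _, _, hfr, hcard⟩ := exists_field_ext (F := F) p (d := a + a) (by omega)
    let b : Module.Basis (Fin a ⊕ Fin a) F L := (Module.finBasisOfFinrankEq F L hfr).reindex finSumFinEquiv.symm
    obtain ⟨e, rfl⟩ := exists_unit_order L (N := N) (hcard ▸ h.trans ⟨q ^ a - 1, by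
      have h1 := Nat.sq_sub_sq (q ^ a) 1
      rw [one_pow, ← pow_mul] at h1
      rw [← h1, mul_two]⟩)
    let σ : L →ₐ[F] L := (FiniteField.frobeniusAlgHom F L) ^ a
    have hσ : ∀ x, σ x = x ^ q ^ a := fun x => by
      show ((FiniteField.frobeniusAlgHom F L) ^ a) x = _
      rw [AlgHom.coe_pow, FiniteField.coe_frobeniusAlgHom, pow_iterate]
    have hσσ : ∀ x, σ (σ x) = x := fun x => by
      rw [hσ, hσ, ← pow_mul, ← pow_add, hq, ← hcard, FiniteField.pow_card]
    let σe : L ≃ₐ[F] L := AlgEquiv.ofBijective σ ⟨fun x y hxy => by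
      rw [← hσσ x, hxy, hσσ], fun x => ⟨σ x, hσσ x⟩⟩
    refine exists_iso_of_algebra h2 b σ hσσ (Algebra.trace F L)
      (fun x => Algebra.trace_eq_of_algEquiv σe x) (fun x hx => ?_) e ?_
    · exact (traceForm_nondegenerate F L).1 x fun y => by rw [Algebra.traceForm_apply]; exact hx y
    · rw [hσ, ← pow_succ', ← Units.val_pow_eq_pow_val, orderOf_dvd_iff_pow_eq_one.1 h, Units.val_one]
  · obtain ⟨K, _, _, _, hfr, hcard⟩ := exists_field_ext (F := F) p (d := a) ha
    let b : Module.Basis (Fin a ⊕ Fin a) F (K × K) :=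
      (Module.finBasisOfFinrankEq F K hfr).prod (Module.finBasisOfFinrankEq F K hfr)
    obtain ⟨e, rfl⟩ := exists_unit_order K (N := N) (hcard ▸ h)
    let E : (K × K)ˣ := MulEquiv.prodUnits.symm (e, e⁻¹)
    have ho : orderOf e = orderOf E := by
      rw [show E = MulEquiv.prodUnits.symm (e, e⁻¹) from rfl, MulEquiv.orderOf_eq, Prod.orderOf,
        orderOf_inv, Nat.lcm_self]
    rw [ho]
    refine exists_iso_of_algebra h2 b ((AlgHom.snd F K K).prod (AlgHom.fst F K K)) (fun x => rfl)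
      ((Algebra.trace F K).comp (LinearMap.fst F K K) + (Algebra.trace F K).comp (LinearMap.snd F K K))
      (fun x => ?_) (fun x hx => ?_) E ?_
    · show Algebra.trace F K x.2 + Algebra.trace F K x.1 = Algebra.trace F K x.1 + Algebra.trace F K x.2
      exact add_comm _ _
    · refine Prod.ext ((traceForm_nondegenerate F K).1 _ fun y => ?_) ((traceForm_nondegenerate F K).1 _ fun y => ?_)
      · have h1 := hx (y, 0)
        rw [Algebra.traceForm_apply]
        simpa using h1
      · have h1 := hx (0, y)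
        rw [Algebra.traceForm_apply]
        simpa using h1
    · refine Prod.ext ?_ ?_
      · exact e.mul_inv
      · exact e.inv_mul

theorem det_polarMat_smul (Q : QuadraticForm F (ι → F)) (c : F) :
    (CfsgLib.FiniteForms.polarMat ⇑(c • Q)).det = c ^ Fintype.card ι * (CfsgLib.FiniteForms.polarMat ⇑Q).det := by
  rw [CfsgLib.FiniteForms.polarMat_smul, Matrix.det_smul]

/-- Adding a block to an odd-dimensional space. -/
theorem exists_embed (h2 : (2 : F) ≠ 0) {a c n : ℕ} (hn : a + c = n) {Q : QuadraticForm F (Fin a ⊕ Fin a → F)}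
    (hQ : (polarBilin Q).Nondegenerate) (g : Cfsg.isometryGroup F ⇑Q)
    (h : Cfsg.isometryGroup F ⇑(Qo (F := F) c)) :
    ∃ x : Cfsg.isometryGroup F ⇑(Qo (F := F) n), orderOf x = Nat.lcm (orderOf g) (orderOf h) := by
  classical
  subst hn
  set S := Qs Q (Qo (F := F) c)
  let σ : (Unit ⊕ (Fin (a + c) ⊕ Fin (a + c))) ≃ (Fin a ⊕ Fin a) ⊕ (Unit ⊕ (Fin c ⊕ Fin c)) :=
    Fintype.equivOfCardEq (by simp; omega)
  let S' : QuadraticForm F (Unit ⊕ (Fin (a + c) ⊕ Fin (a + c)) → F) :=
    S.comp (LinearMap.funLeft F F σ.symm)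
  have hS' : ∀ v, S' v = S (v ∘ σ.symm) := fun v => rfl
  have he1 : FormEquiv S S' := formEquiv_reindex σ fun v => by
    rw [hS']
    congr 1
    funext s
    simp
  have hS'nd : (polarBilin S').Nondegenerate := by
    have hSnd := Qs_nondeg Q (Qo (F := F) c) hQ (Qo_nondeg h2 c)
    have hl : ∀ u, (∀ v, polar S' u v = 0) → u = 0 := fun u hu => by
      have : u ∘ σ.symm = 0 := hSnd.1 _ fun y => by
        have := hu (y ∘ σ)
        simp only [polar, hS'] at this
        rw [show (y ∘ σ) ∘ σ.symm = y by funext s; simp] at this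
        simpa [polar, Function.comp_def, Pi.add_def] using this
      funext s
      simpa using congrFun this (σ s)
    exact ⟨fun u hu => hl u hu, fun v hv => hl v fun u => (polar_comm _ v u).trans (hv u)⟩
  set d' := (CfsgLib.FiniteForms.polarMat ⇑S').det
  set d0 := (CfsgLib.FiniteForms.polarMat ⇑(Qo (F := F) (a + c))).det
  have hd' : d' ≠ 0 := CfsgLib.FiniteForms.polarMat_det_ne_zero hS'nd
  have hd0 : d0 ≠ 0 := CfsgLib.FiniteForms.polarMat_det_ne_zero (Qo_nondeg h2 (a + c))
  have hl0 : d' * d0 ≠ 0 := mul_ne_zero hd' hd0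
  have hdet : (CfsgLib.FiniteForms.polarMat ⇑((d' * d0) • Qo (F := F) (a + c))).det ≠ 0 := by
    rw [det_polarMat_smul]
    exact mul_ne_zero (pow_ne_zero _ hl0) hd0
  obtain ⟨L, hL⟩ := CfsgLib.FiniteForms.isometry_of_congr h2 S' ((d' * d0) • Qo (F := F) (a + c))
    ((CfsgLib.FiniteForms.congr_iff h2 (CfsgLib.FiniteForms.polarMat_isSymm _)
      (CfsgLib.FiniteForms.polarMat_isSymm _) hdet hd').2 ⟨(d' * d0) ^ (a + c + 1), by
        rw [det_polarMat_smul, show Fintype.card (Unit ⊕ (Fin (a + c) ⊕ Fin (a + c))) = a + c + (a + c) + 1 by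
          simp; omega]
        ring⟩)
  obtain ⟨φ0, hφ0⟩ := exists_transfer (he1.trans ⟨L, hL⟩)
  let φ := (MulEquiv.subgroupCongr (isometryGroup_smul (Qo (F := F) (a + c)) hl0)).toMonoidHom.comp φ0
  have hφ : Function.Injective φ :=
    (MulEquiv.subgroupCongr (isometryGroup_smul (Qo (F := F) (a + c)) hl0)).injective.comp hφ0
  let ψ : GL (Fin a ⊕ Fin a) F × GL (Unit ⊕ (Fin c ⊕ Fin c)) F →* GL ((Fin a ⊕ Fin a) ⊕ (Unit ⊕ (Fin c ⊕ Fin c))) F :=
    MonoidHom.toHomUnits
    { toFun := fun p => Matrix.fromBlocks p.1.1 0 0 p.2.1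
      map_one' := by simp [Matrix.fromBlocks_one]
      map_mul' := fun p p' => by simp [Matrix.fromBlocks_multiply] }
  have hψ : Function.Injective ψ := fun p p' hp => by
    have h1 := congrArg Units.val hp
    exact Prod.ext (Units.ext (Matrix.fromBlocks_inj.1 h1).1) (Units.ext (Matrix.fromBlocks_inj.1 h1).2.2.2)
  have hmem : ψ (g.1, h.1) ∈ Cfsg.isometryGroup F ⇑S := by
    intro u _
    show S (Matrix.fromBlocks g.1.1 0 0 h.1.1 *ᵥ u) = S u
    rw [Qs_apply, Qs_apply, Matrix.fromBlocks_mulVec, Sum.elim_comp_inl, Sum.elim_comp_inr,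
      Matrix.zero_mulVec, Matrix.zero_mulVec, add_zero, zero_add]
    exact congrArg₂ (· + ·) (g.2 _ (u ∘ Sum.inl)) (h.2 _ (u ∘ Sum.inr))
  refine ⟨φ ⟨_, hmem⟩, ?_⟩
  rw [orderOf_injective φ hφ, Subgroup.orderOf_mk, orderOf_injective ψ hψ, Prod.orderOf,
    Subgroup.orderOf_coe, Subgroup.orderOf_coe]

theorem exists_orth_char (hodd : Odd (Fintype.card F)) (p : ℕ) [Fact p.Prime] [CharP F p] {c : ℕ} (hc : 0 < c) :
    ∃ h : Cfsg.isometryGroup F ⇑(Qo (F := F) c), orderOf h = p := by
  refine exists_prime_orderOf_dvd_card' p ?_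
  rw [show ⇑(Qo (F := F) c) = Cfsg.quadFormOdd c F from funext fun v => Qo_apply c v,
    CfsgLib.OrthOrder.card_O_odd hodd]
  obtain ⟨a, ha, hF⟩ := CfsgLib.PSpGraph.card_eq_pow F p
  refine Dvd.dvd.mul_right (Dvd.dvd.mul_left ?_ _) _
  rw [hF, ← pow_mul]
  exact dvd_pow_self p (Nat.mul_ne_zero (by omega) (pow_ne_zero _ hc.ne'))

end CfsgLib.PrimeGraphBC
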